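import Cfsg.Agent.ZJF.SparseFree
import Cfsg.Agent.Fus.SectionFree
set_option autoImplicit false
set_option linter.unusedSectionVars false

/-!
Automizers of characteristic subgroups.
-/

namespace Cfsg.Agent.ZJF

open Cfsg Cfsg.FusionSystem Cfsg.Agent.Fus

universe u

section

variable {Ω Ω' : Type*} [Group Ω] [Group Ω'] {S : Subgroup Ω} {S' : Subgroup Ω'} {F : FusionSystem S}
  {E : FusionSystem S'} {θ : S →* Ω'} {p : ℕ}

/-- inner modulo `Q` with `Aut_F(Q)` a `p`-group -/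
theorem isInner_of_fac [Finite S] [Fact p.Prime] (hS : IsPGroup p S) (hF : F.IsSaturated p) {Q : Subgroup Ω}
    (hQ : F.IsNormal Q) (h1 : ∀ α ∈ F.autGroup Q, ∃ n : ℕ, α ^ p ^ n = 1) (hfac : IsFac F Q θ E)
    (hE : IsInner E) : IsInner F := by
  refine isInner_of_quot hS hF hQ h1 fun P f hf hQP => ?_
  obtain ⟨f', hf', hi⟩ := hfac.induce hf hQP
  obtain ⟨s', hs', hsf'⟩ := hE _ f' hf'
  obtain ⟨s, hs, rfl⟩ := hfac.exists_ext hs'
  refine ⟨s, hs, fun x hx => ?_⟩
  have hxS := hf.le hx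
  rw [← hfac.eq_iff (hf.mem hx) (S.mul_mem (S.mul_mem hs hxS) (S.inv_mem hs)), ← hi x hx,
    hsf' _ (ext_mem_imageAlong θ hf.le hx), ext_mul θ (S.mul_mem hs hxS) (S.inv_mem hs), ext_mul θ hs hxS,
    ext_inv θ hs]

/-- preimages of characteristic subgroups are characteristic -/
theorem characteristic_preimage (θ : S →* Ω') {W : Subgroup Ω}
    (hker : ∀ x ∈ S, ext θ x = 1 ↔ x ∈ W) (hWc : (W.subgroupOf S).Characteristic) {Q' : Subgroup Ω'}
    (hQ'c : (Q'.subgroupOf θ.range).Characteristic) : ((preimageAlong θ Q').subgroupOf S).Characteristic := by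
  have hk : θ.ker = W.subgroupOf S := by
    ext x
    rw [MonoidHom.mem_ker, Subgroup.mem_subgroupOf, ← hker x x.2, ext_coe]
  rw [Subgroup.characteristic_iff_map_le]
  intro φ
  have hkφ : θ.ker.map (φ : S →* S) = θ.ker := by
    rw [hk]
    exact Subgroup.characteristic_iff_map_eq.mp hWc φ
  let e := QuotientGroup.quotientKerEquivRange θ
  let ψ : θ.range ≃* θ.range := e.symm.trans ((QuotientGroup.congr θ.ker θ.ker φ hkφ).trans e)
  have hψ : ∀ x : S, ψ ⟨θ x, ⟨x, rfl⟩⟩ = ⟨θ (φ x), ⟨φ x, rfl⟩⟩ := by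
    intro x
    have h1 : e.symm ⟨θ x, ⟨x, rfl⟩⟩ = QuotientGroup.mk x := by
      rw [MulEquiv.symm_apply_eq]
      rfl
    show e (QuotientGroup.congr θ.ker θ.ker φ hkφ (e.symm ⟨θ x, ⟨x, rfl⟩⟩)) = _
    rw [h1]
    rfl
  rintro _ ⟨x, hx, rfl⟩
  have hx' : (x : Ω) ∈ preimageAlong θ Q' := hx
  obtain ⟨hxS, hxQ⟩ := (mem_preimageAlong θ).mp hx'
  rw [ext_coe] at hxQ
  have h2 := Subgroup.characteristic_iff_map_le.mp hQ'c ψ
  have h3 : ψ ⟨θ x, ⟨x, rfl⟩⟩ ∈ Q'.subgroupOf θ.range := h2 ⟨⟨θ x, ⟨x, rfl⟩⟩, hxQ, rfl⟩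
  rw [hψ] at h3
  refine (mem_preimageAlong θ).mpr ⟨(φ x).2, ?_⟩
  show ext θ ((φ x : S) : Ω) ∈ Q'
  rw [ext_coe]
  exact h3

end

theorem characteristic_of_isNat {W : ∀ (X : Type u) [Group X], Subgroup X} (hW : ZJ.IsNat W) (X : Type u) [Group X] :
    (W X).Characteristic :=
  Subgroup.characteristic_iff_map_eq.mpr fun e => hW X X e

section

variable {Ω : Type u} [Group Ω] {S : Subgroup Ω} {F : FusionSystem S} {p : ℕ}

/-- `N_F(W)` as a system over `S`, with more information. -/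
theorem exists_normSelf' [Finite S] [Fact p.Prime] (hS : IsPGroup p S) (hF : F.IsSaturated p) {W : Subgroup Ω}
    (hW : W ≤ S) (hn : S ≤ Subgroup.normalizer (W : Set Ω)) :
    ∃ E : FusionSystem S, E.IsSaturated p ∧ E ≤ F ∧ E.IsNormal W ∧ (IsInner E → NInner F W) ∧
      (∀ (H : Type) [Group H], F.IsSectionFree p H → E.IsSectionFree p H) := by
  have hTS : normalizerIn S W = S := inf_eq_left.mpr hn
  have hfn : F.IsFullyNormalized W := ⟨hW, fun Q _ => by
    rw [hTS]; exact Subgroup.card_le_of_le (normalizerIn_le Q)⟩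
  obtain ⟨N, hN⟩ := exists_isNormalizerSystem F hW
  have hNs := normalizerSystem_saturated hS hF hfn hN
  have key : ∀ T : Subgroup Ω, T = S → ∀ N : FusionSystem T, N.IsSaturated p → N.IsNormal W →
      (∀ (H : Type) [Group H], F.IsSectionFree p H → N.IsSectionFree p H) →
      ∃ E : FusionSystem S, E.IsSaturated p ∧ E.IsNormal W ∧
        (∀ (H : Type) [Group H], F.IsSectionFree p H → E.IsSectionFree p H) ∧ ∀ P f, IsMap E P f ↔ IsMap N P f := by
    rintro T rfl N h h' h''; exact ⟨N, h, h', h'', fun _ _ => Iff.rfl⟩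
  obtain ⟨E, hEs, hEn, hEf, hE⟩ := key _ hTS N hNs (isNormal_normSys hW hN)
    fun H _ h => isSectionFree_normSys hS hF h hfn hN
  refine ⟨E, hEs, ?_, hEn, ?_, hEf⟩
  · rw [le_iff]
    intro P f hf
    exact isMap_of_normSys hN ((hE P f).mp hf)
  · intro h P f hf hWP hP himg
    exact h P f ((hE P f).mpr ((isMap_normSys_of_le hN hWP).mpr ⟨hP, hf, himg⟩))

end

/-- Automizers of nontrivial characteristic subgroups of `S` are `p`-groups: the system is inner. -/
theorem inner_of_char {p : ℕ} [Fact p.Prime] : ∀ (n : ℕ) (Ω : Type u) [Group Ω] (S : Subgroup Ω) [Finite S]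
    (F : FusionSystem S), Nat.card S = n → IsPGroup p S → F.IsSaturated p →
    (p ≠ 2 ∨ F.IsSectionFree p (Equiv.Perm (Fin 4))) →
    (∀ Q : Subgroup Ω, Q ≤ S → Q ≠ ⊥ → (Q.subgroupOf S).Characteristic →
      ∀ α ∈ F.autGroup Q, ∃ n : ℕ, α ^ p ^ n = 1) → IsInner F := by
  intro n
  induction n using Nat.strong_induction_on with
  | _ n ih =>
  intro Ω _ S _ F hcard hS hF hp h
  by_contra hni
  obtain ⟨W, hWS, hW1, hWn, hWi, hWc⟩ := exists_of_thompson hS hF hp hni
  have hWchar : (W.subgroupOf S).Characteristic := by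
    rcases hWc with rfl | rfl
    · have h1 : (S ⊓ Subgroup.centralizer (S : Set Ω)).subgroupOf S = Subgroup.center S := by
        ext x
        rw [Subgroup.mem_subgroupOf, Subgroup.mem_center_iff]
        constructor
        · rintro ⟨-, h2⟩ y
          exact Subtype.ext (Subgroup.mem_centralizer_iff.mp h2 y y.2)
        · intro h2
          exact ⟨x.2, Subgroup.mem_centralizer_iff.mpr fun y hy => congrArg Subtype.val (h2 ⟨y, hy⟩)⟩
      rw [h1]
      infer_instance
    · have h1 : (thompsonSubgroupAOf S).subgroupOf S = thompsonSubgroupA S := by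
        unfold thompsonSubgroupAOf
        exact Subgroup.comap_map_eq_self_of_injective S.subtype_injective _
      rw [h1]
      exact characteristic_of_isNat ZJ.isNat_thompsonA S
  obtain ⟨E, hEs, hEF, hEn, hEi, hEf⟩ := exists_normSelf' hS hF hWS hWn
  apply hWi
  apply hEi
  have hsc := sc_of_isNormal hEn
  -- the factor system
  have hWn' : (W.subgroupOf S).Normal := BG.normal_subgroupOf_of_le_normalizer hWn
  obtain ⟨θ, hθ⟩ : ∃ θ : S →* (S ⧸ W.subgroupOf S), θ = QuotientGroup.mk' (W.subgroupOf S) := ⟨_, rfl⟩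
  have hθk : ∀ x ∈ S, ext θ x = 1 ↔ x ∈ W := by
    intro x hx
    rw [ext_apply _ hx, hθ, QuotientGroup.mk'_apply, QuotientGroup.eq_one_iff]
    exact Subgroup.mem_subgroupOf
  obtain ⟨E', hE'⟩ := exists_isFactorSystem E hsc θ hθk rfl
  have hfac := isFac_of_isFactorSystem hsc hE'
  have hfin' := hfac.finite
  refine isInner_of_fac hS hEs hEn (fun α hα => h W hWS hW1 hWchar α (autGroup_mono hEF W hα)) hfac ?_
  refine ih (Nat.card θ.range) ?_ (S ⧸ W.subgroupOf S) θ.range E' rfl (hfac.isPGroup hS) (hfac.isSaturated hS hEs)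
    (hp.imp_right fun h' => H87.isSectionFree_fac hS hEs hEn (hEf _ h') hfac) ?_
  · rw [← hcard]
    have h1 : Nat.card θ.range * Nat.card θ.ker = Nat.card S := by
      have h2 := Nat.card_congr (QuotientGroup.quotientKerEquivRange θ).toEquiv
      rw [← h2, ← Subgroup.card_eq_card_quotient_mul_card_subgroup]
    have h3 : θ.ker ≠ ⊥ := by
      rw [hθ, QuotientGroup.ker_mk']
      intro h0
      apply hW1
      rw [Subgroup.subgroupOf_eq_bot] at h0
      rw [eq_bot_iff]
      intro x hx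
      have := h0.le_bot (⟨hx, hWS hx⟩ : x ∈ W ⊓ S)
      exact this
    have h4 : 1 < Nat.card θ.ker := by
      have := Nat.card_pos (α := θ.ker)
      have hne : Nat.card θ.ker ≠ 1 := fun h => h3 (Subgroup.card_eq_one.mp h)
      omega
    have h5 : 0 < Nat.card θ.range := Nat.card_pos
    nlinarith
  · intro Q' hQ' hQ'1 hQ'c α' hα'
    obtain ⟨Q, hQ⟩ : ∃ Q, Q = preimageAlong θ Q' := ⟨_, rfl⟩
    have hQS : Q ≤ S := by rw [hQ]; exact preimageAlong_le θ Q'
    have hWQ : W ≤ Q := by rw [hQ]; exact hfac.le_pre Q'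
    have himQ : imageAlong θ Q = Q' := by rw [hQ]; exact hfac.im_pre hQ'
    have hQ1 : Q ≠ ⊥ := by
      rintro rfl
      exact hW1 (le_bot_iff.mp hWQ)
    have hQc : (Q.subgroupOf S).Characteristic := by
      rw [hQ]; exact characteristic_preimage θ hθk hWchar hQ'c
    subst himQ
    rw [← hfac.facAut_range hQS hWQ] at hα'
    obtain ⟨α, rfl⟩ := hα'
    obtain ⟨k, hk⟩ := h Q hQS hQ1 hQc α (autGroup_mono hEF Q α.2)
    refine ⟨k, ?_⟩
    rw [← map_pow]
    have h6 : α ^ p ^ k = 1 := Subtype.ext hk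
    rw [h6, map_one]

end Cfsg.Agent.ZJF
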