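import Cfsg.Agent.ZJF.Minimal
import Cfsg.Agent.H87.QuotFree
set_option autoImplicit false
set_option linter.unusedSectionVars false

/-!
Sparse systems are constrained, `p` odd or `S₄`-free.
-/

namespace Cfsg.Agent.ZJF

open Cfsg Cfsg.FusionSystem Cfsg.Agent.Fus

universe u

variable {Ω : Type u} [Group Ω] {S : Subgroup Ω} {F : FusionSystem S} {p : ℕ}

theorem constrained_of_sparse_free [Finite S] [Fact p.Prime] (hS : IsPGroup p S)
    (hF : F.IsSaturated p) (hp : p ≠ 2 ∨ F.IsSectionFree p (Equiv.Perm (Fin 4))) (hne : ¬ IsInner F)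
    (hsp : ∀ E : FusionSystem S, E.IsSaturated p → E ≤ F → IsInner E ∨ F ≤ E) : F.IsConstrained p := by
  refine constrained_of_sparse hS hF hne hsp ?_ ?_
  · obtain ⟨W, h1, h2, h3, h4, -⟩ := exists_of_thompson hS hF hp hne
    exact ⟨W, h1, h2, h3, h4⟩
  · intro Ω' _ S' θ E' hE' hs hn
    have hn' := Fus.Join.isNormal_core F
    have hsc := sc_of_isNormal hn'
    have hfac := isFac_of_isFactorSystem hsc hE'
    have := hfac.finite
    obtain ⟨W, h1, h2, h3, h4, -⟩ := exists_of_thompson (hfac.isPGroup hS) hs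
      (hp.imp_right fun h => H87.isSectionFree_fac hS hF hn' h hfac) hn
    exact ⟨W, h1, h2, h3, h4⟩

end Cfsg.Agent.ZJF
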