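import Mathlib
import Cfsg.Agent.ZJF.QuotB
set_option autoImplicit false
set_option linter.all false

/-!
Normalizer `p`-stability of quotients by `p`-subgroups centralized by the `p'`-elements, all odd `p`.
(adapted from the argument for `p > 3`)
-/

namespace Cfsg.Agent.ZJF.Quot

open Cfsg Subgroup
open Cfsg.Agent.H36 Cfsg.Agent.H32
open Cfsg.Agent.H32.StabQuot (central_of_chain exists_split frattini_map_normalizer frattini_sup_lt mem_pCore_of_pairs)
open Matrix (SpecialLinearGroup)
open scoped commutatorElement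

variable {X : Type*} [Group X] [Finite X] {p : ℕ} [hp : Fact p.Prime]

/-- in the situation of a chief section: everything needed for `sl2_of_pair`. -/
theorem pair_centralizes_core' (hp2 : p ≠ 2) (hst : IsNormalizerPStable p X) {P T : Subgroup X}
    (hPp : IsPGroup p P) (hTP : T < P) {g h : X}
    (hgP : g ∈ normalizer (P : Set X)) (hhP : h ∈ normalizer (P : Set X))
    (hTc : ∀ z ∈ T, ∀ u ∈ P, z * u = u * z) (hPT : P ≤ normalizer (T : Set X)) (hgT : g ∈ normalizer (T : Set X)) (hhT : h ∈ normalizer (T : Set X))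
    (hab : ∀ u ∈ P, ∀ v ∈ P, ⁅u, v⁆ ∈ T) (hexp : ∀ u ∈ P, u ^ p ∈ T)
    (hmax : ∀ R : Subgroup X, T ≤ R → R ≤ P → g ∈ normalizer (R : Set X) → h ∈ normalizer (R : Set X) →
      P ≤ normalizer (R : Set X) → R = T ∨ R = P)
    (hg : ∀ u ∈ P, ⁅g, ⁅g, u⁆⁆ ∈ T) (hh : ∀ u ∈ P, ⁅h, ⁅h, u⁆⁆ ∈ T)
    (hT : ∀ x ∈ closure {g, h}, (orderOf x).Coprime p → x ∈ centralizer (T : Set X)) :
    ∀ x ∈ closure {g, h}, (orderOf x).Coprime p → x ∈ centralizer (P : Set X) := by
  intro x hx hxp
  by_contra hxP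
  obtain ⟨H, hHdef⟩ : ∃ H : Subgroup X, H = closure {g, h} := ⟨_, rfl⟩
  rw [← hHdef] at hT hx
  have hgH : g ∈ H := by rw [hHdef]; exact subset_closure (by simp)
  have hhH : h ∈ H := by rw [hHdef]; exact subset_closure (by simp)
  have hHP : H ≤ normalizer (P : Set X) := by
    rw [hHdef, closure_le]
    rintro y hy
    simp only [Set.mem_insert_iff, Set.mem_singleton_iff] at hy
    rcases hy with rfl | rfl
    · exact hgP
    · exact hhP
  have hHT : H ≤ normalizer (T : Set X) := by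
    rw [hHdef, closure_le]
    rintro y hy
    simp only [Set.mem_insert_iff, Set.mem_singleton_iff] at hy
    rcases hy with rfl | rfl
    · exact hgT
    · exact hhT
  have hconjP : ∀ l ∈ H, ∀ u ∈ P, l * u * l⁻¹ ∈ P := fun l hl u hu =>
    (mem_normalizer_iff.1 (hHP hl) u).1 hu
  have hconjT : ∀ l ∈ H, ∀ u ∈ T, l * u * l⁻¹ ∈ T := fun l hl u hu =>
    (mem_normalizer_iff.1 (hHT hl) u).1 hu
  obtain ⟨T', hT'⟩ : ∃ T' : Subgroup P, T' = T.subgroupOf P := ⟨_, rfl⟩
  haveI hT'n : T'.Normal := by rw [hT']; exact normal_subgroupOf_iff_le_normalizer hTP.le |>.2 hPT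
  have memT' : ∀ u : P, u ∈ T' ↔ (u : X) ∈ T := by intro u; rw [hT']; rfl
  letI instCG : CommGroup (P ⧸ T') :=
    { (inferInstance : Group (P ⧸ T')) with
      mul_comm := by
        intro a b
        obtain ⟨a, rfl⟩ := QuotientGroup.mk_surjective a
        obtain ⟨b, rfl⟩ := QuotientGroup.mk_surjective b
        show (QuotientGroup.mk (a * b) : P ⧸ T') = QuotientGroup.mk (b * a)
        rw [QuotientGroup.eq, memT']
        have h1 := hab (b : X)⁻¹ (P.inv_mem b.2) (a : X)⁻¹ (P.inv_mem a.2)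
        have e : (((a * b)⁻¹ * (b * a) : P) : X) = ⁅(b : X)⁻¹, (a : X)⁻¹⁆ := by
          rw [commutatorElement_def]; push_cast; group
        rw [e]; exact h1 }
  let act : H → ((P ⧸ T') →* (P ⧸ T')) := fun l =>
    QuotientGroup.map T' T' (normalizerMonoidHom P (inclusion hHP l)).toMonoidHom (by
      intro u hu
      rw [mem_comap, memT']
      rw [memT'] at hu
      exact hconjT l l.2 _ hu)
  have act_mk : ∀ (l : H) (u : P), act l (QuotientGroup.mk u) =
      QuotientGroup.mk (⟨(l : X) * u * (l : X)⁻¹, hconjP l l.2 u u.2⟩ : P) := fun l u => rfl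
  let ρ : H →* (Additive (P ⧸ T') →ₗ[ℤ] Additive (P ⧸ T')) :=
    { toFun := fun l => (MonoidHom.toAdditive (act l)).toIntLinearMap
      map_one' := by
        apply LinearMap.ext
        intro v
        obtain ⟨u, hu⟩ := QuotientGroup.mk_surjective v.toMul
        have hv : v = Additive.ofMul (QuotientGroup.mk u : P ⧸ T') := by rw [hu]; rfl
        rw [hv]
        show Additive.ofMul (act 1 (QuotientGroup.mk u)) = Additive.ofMul (QuotientGroup.mk u : P ⧸ T')
        rw [act_mk]
        congr 2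
        apply Subtype.ext
        simp
      map_mul' := by
        intro k l
        apply LinearMap.ext
        intro v
        obtain ⟨u, hu⟩ := QuotientGroup.mk_surjective v.toMul
        have hv : v = Additive.ofMul (QuotientGroup.mk u : P ⧸ T') := by rw [hu]; rfl
        rw [hv]
        show Additive.ofMul (act (k * l) (QuotientGroup.mk u)) =
          Additive.ofMul (act k (act l (QuotientGroup.mk u : P ⧸ T')))
        rw [act_mk, act_mk, act_mk]
        congr 2
        apply Subtype.ext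
        show ((k * l : H) : X) * u * ((k * l : H) : X)⁻¹ = (k : X) * ((l : X) * u * (l : X)⁻¹) * (k : X)⁻¹
        push_cast
        group }
  have hρ : ∀ (l : H) (u : P), ρ l (Additive.ofMul (QuotientGroup.mk u : P ⧸ T')) =
      Additive.ofMul (QuotientGroup.mk (⟨(l : X) * u * (l : X)⁻¹, hconjP l l.2 u u.2⟩ : P) : P ⧸ T') :=
    fun l u => rfl
  have hsurj : ∀ v : Additive (P ⧸ T'), ∃ u : P, v = Additive.ofMul (QuotientGroup.mk u : P ⧸ T') := by
    intro v
    obtain ⟨u, hu⟩ := QuotientGroup.mk_surjective v.toMul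
    exact ⟨u, by rw [hu]; rfl⟩
  have hmk : ∀ u v : P, (Additive.ofMul (QuotientGroup.mk u : P ⧸ T') = Additive.ofMul (QuotientGroup.mk v : P ⧸ T')) ↔
      (u : X)⁻¹ * v ∈ T := by
    intro u v
    rw [Additive.ofMul.injective.eq_iff, QuotientGroup.eq, memT']
    rfl
  -- commutators
  have hcommP : ∀ l ∈ H, ∀ u ∈ P, ⁅l, u⁆ ∈ P := by
    intro l hl u hu
    rw [commutatorElement_def]; exact P.mul_mem (hconjP l hl u hu) (P.inv_mem hu)
  have hsub : ∀ (l : H) (u : P), ρ l (Additive.ofMul (QuotientGroup.mk u : P ⧸ T')) -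
      Additive.ofMul (QuotientGroup.mk u : P ⧸ T') =
      Additive.ofMul (QuotientGroup.mk (⟨⁅(l : X), (u : X)⁆, hcommP l l.2 u u.2⟩ : P) : P ⧸ T') := by
    intro l u
    rw [hρ, sub_eq_iff_eq_add]
    rw [← ofMul_mul]
    apply congrArg Additive.ofMul
    show _ = QuotientGroup.mk ((⟨⁅(l : X), (u : X)⁆, hcommP l l.2 u u.2⟩ : P) * u)
    apply congrArg
    apply Subtype.ext
    show (l : X) * u * (l : X)⁻¹ = ⁅(l : X), (u : X)⁆ * u
    rw [commutatorElement_def]; group
  have hfix : ∀ (l : H) (u : P), ρ l (Additive.ofMul (QuotientGroup.mk u : P ⧸ T')) =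
      Additive.ofMul (QuotientGroup.mk u : P ⧸ T') ↔ ⁅(l : X), (u : X)⁆ ∈ T := by
    intro l u
    rw [← sub_eq_zero, hsub]
    have e0 : (0 : Additive (P ⧸ T')) = Additive.ofMul (QuotientGroup.mk (1 : P) : P ⧸ T') := rfl
    rw [e0, hmk]
    constructor
    · intro h5
      have := T.inv_mem h5
      simpa using this
    · intro h5
      have := T.inv_mem h5
      simpa using this
  have hfixall : ∀ l : H, (∀ v, ρ l v = v) ↔ ∀ u ∈ P, ⁅(l : X), u⁆ ∈ T := by
    intro l
    constructor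
    · intro h5 u hu
      exact (hfix l ⟨u, hu⟩).1 (h5 _)
    · intro h5 v
      obtain ⟨u, rfl⟩ := hsurj v
      exact (hfix l u).2 (h5 u u.2)
  have hquad : ∀ l : H, (∀ v, ρ l (ρ l v - v) = ρ l v - v) ↔ ∀ u ∈ P, ⁅(l : X), ⁅(l : X), u⁆⁆ ∈ T := by
    intro l
    constructor
    · intro h5 u hu
      have h6 := h5 (Additive.ofMul (QuotientGroup.mk (⟨u, hu⟩ : P) : P ⧸ T'))
      rw [hsub] at h6
      exact (hfix l _).1 h6
    · intro h5 v
      obtain ⟨u, rfl⟩ := hsurj v
      rw [hsub]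
      exact (hfix l _).2 (h5 u u.2)
  haveI hntV : Nontrivial (Additive (P ⧸ T')) := by
    obtain ⟨u, hu, huT⟩ := SetLike.exists_of_lt hTP
    refine ⟨⟨Additive.ofMul (QuotientGroup.mk (⟨u, hu⟩ : P) : P ⧸ T'),
      Additive.ofMul (QuotientGroup.mk (1 : P) : P ⧸ T'), ?_⟩⟩
    intro h5
    rw [hmk] at h5
    apply huT
    have := T.inv_mem h5
    simpa using this
  have hVp : ∀ v : Additive (P ⧸ T'), p • v = 0 := by
    intro v
    obtain ⟨u, rfl⟩ := hsurj v
    have e0 : (0 : Additive (P ⧸ T')) = Additive.ofMul (QuotientGroup.mk (1 : P) : P ⧸ T') := rfl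
    have e1 : p • Additive.ofMul (QuotientGroup.mk u : P ⧸ T') = Additive.ofMul (QuotientGroup.mk (u ^ p) : P ⧸ T') := rfl
    rw [e0, e1, hmk]
    have := T.inv_mem (hexp u u.2)
    simpa using this
  have hgen : closure {(⟨g, hgH⟩ : H), ⟨h, hhH⟩} = ⊤ := by
    apply map_injective H.subtype_injective
    rw [MonoidHom.map_closure, ← MonoidHom.range_eq_map, range_subtype, Set.image_insert_eq,
      Set.image_singleton]
    exact hHdef.symm
  obtain ⟨K, ψ, hψ, hψ1, hψ2, hψ3⟩ := SL2Pair.sl2_of_pair (p := p) hp2 hVp ρ hgen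
    ((hquad ⟨g, hgH⟩).2 hg) ((hquad ⟨h, hhH⟩).2 hh) (by
      intro W hW
      let R : Subgroup X :=
        { carrier := {u | ∃ hu : u ∈ P, Additive.ofMul (QuotientGroup.mk (⟨u, hu⟩ : P) : P ⧸ T') ∈ W}
          mul_mem' := by
            rintro a b ⟨ha, haW⟩ ⟨hb, hbW⟩
            exact ⟨P.mul_mem ha hb, W.add_mem haW hbW⟩
          one_mem' := ⟨P.one_mem, W.zero_mem⟩
          inv_mem' := by
            rintro a ⟨ha, haW⟩
            exact ⟨P.inv_mem ha, W.neg_mem haW⟩ }
      have hmemR : ∀ u, u ∈ R ↔ ∃ hu : u ∈ P, Additive.ofMul (QuotientGroup.mk (⟨u, hu⟩ : P) : P ⧸ T') ∈ W :=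
        fun u => Iff.rfl
      have hTR : T ≤ R := by
        intro u hu
        rw [hmemR]
        refine ⟨hTP.le hu, ?_⟩
        have : Additive.ofMul (QuotientGroup.mk (⟨u, hTP.le hu⟩ : P) : P ⧸ T') =
            Additive.ofMul (QuotientGroup.mk (1 : P) : P ⧸ T') := by
          rw [hmk]; simpa using hu
        rw [this]; exact W.zero_mem
      have hRP : R ≤ P := fun u hu => hu.1
      have hRH : ∀ l ∈ H, l ∈ normalizer (R : Set X) := by
        intro l hl
        apply mem_normalizer_fintype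
        rintro u ⟨hu, huW⟩
        exact ⟨hconjP l hl u hu, hW ⟨l, hl⟩ _ huW⟩
      have hPR : P ≤ normalizer (R : Set X) := by
        intro l hl
        apply mem_normalizer_fintype
        intro u hu
        have e : l * u * l⁻¹ = ⁅l, u⁆ * u := by rw [commutatorElement_def]; group
        rw [e]
        exact R.mul_mem (hTR (hab l hl u (hRP hu))) hu
      rcases hmax R hTR hRP (hRH g hgH) (hRH h hhH) hPR with h5 | h5
      · left
        rw [eq_bot_iff]
        intro v hv
        obtain ⟨u, rfl⟩ := hsurj v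
        have h6 : (u : X) ∈ R := ⟨u.2, hv⟩
        rw [h5] at h6
        rw [AddSubgroup.mem_bot]
        have e0 : (0 : Additive (P ⧸ T')) = Additive.ofMul (QuotientGroup.mk (1 : P) : P ⧸ T') := rfl
        rw [e0, hmk]
        have := T.inv_mem h6
        simpa using this
      · right
        rw [eq_top_iff]
        intro v _
        obtain ⟨u, rfl⟩ := hsurj v
        have h6 : (u : X) ∈ R := by rw [h5]; exact u.2
        exact h6.2) (by
      intro hall
      apply hxP
      obtain ⟨n, hn⟩ := hall ⟨x, hx⟩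
      apply central_of_chain hPp hTP.le hxp (hT x hx hxp)
      have h5 : (orderOf x).Coprime (p ^ n) := Nat.Coprime.pow_right n hxp
      obtain ⟨k, hk⟩ := exists_pow_eq_self_of_coprime (n := p ^ n) (x := x) h5.symm
      have h6 : ∀ v, ρ ((⟨x, hx⟩ : H) ^ p ^ n) v = v := hn
      have h7 : ∀ v, ρ (((⟨x, hx⟩ : H) ^ p ^ n) ^ k) v = v := by
        intro v
        have : ∀ j : ℕ, ρ (((⟨x, hx⟩ : H) ^ p ^ n) ^ j) v = v := by
          intro j
          induction j with
          | zero => rw [pow_zero, map_one]; rfl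
          | succ j ih => rw [pow_succ', map_mul, Module.End.mul_apply, ih, h6]
        exact this k
      have h8 : ((⟨x, hx⟩ : H) ^ p ^ n) ^ k = ⟨x, hx⟩ := Subtype.ext hk
      rw [h8] at h7
      exact (hfixall ⟨x, hx⟩).1 h7)
  -- transport to `X`
  let e := K.equivMapOfInjective H.subtype H.subtype_injective
  have he : ∀ k : K, ((e k : K.map H.subtype) : X) = ((k : H) : X) := fun k => rfl
  have hes : ∀ k : K.map H.subtype, (((e.symm k : K) : H) : X) = (k : X) := by
    intro k
    rw [← he, e.apply_symm_apply]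
  have hKH : K.map H.subtype ≤ H := map_subtype_le _
  refine final_false' (X := X) (p := p) hp2 hst (P := P) (T := T) (K := K.map H.subtype) hTP hPp (hKH.trans hHP)
    (hKH.trans hHT) hTc hab (ψ.comp e.symm.toMonoidHom) (hψ.comp e.symm.surjective) ?_ ?_ ?_ ?_
  · intro k
    show ψ (e.symm k) = 1 ↔ _
    rw [hψ1, hfixall, hes]
  · intro k hk u hu
    have h5 := hψ2 (e.symm k) hk (Additive.ofMul (QuotientGroup.mk (⟨u, hu⟩ : P) : P ⧸ T'))
    rw [hρ] at h5
    have h6 : Additive.ofMul (QuotientGroup.mk (⟨(((e.symm k : K) : H) : X) * u * (((e.symm k : K) : H) : X)⁻¹,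
        hconjP _ ((e.symm k : K) : H).2 u hu⟩ : P) : P ⧸ T') =
        Additive.ofMul (QuotientGroup.mk ((⟨u, hu⟩ : P)⁻¹) : P ⧸ T') := h5
    rw [hmk] at h6
    have h7 := T.inv_mem h6
    have e7 : ((((e.symm k : K) : H) : X) * u * (((e.symm k : K) : H) : X)⁻¹)⁻¹ * (u : X)⁻¹ ∈ T := h6
    rw [hes] at e7
    -- k u^-1 k^-1 u^-1 ∈ T, conjugate by u and invert
    have h8 : u * ((k : X) * u * (k : X)⁻¹) ∈ T := by
      have := T.inv_mem e7
      have e8 : (((k : X) * u * (k : X)⁻¹)⁻¹ * (u : X)⁻¹)⁻¹ = u * ((k : X) * u * (k : X)⁻¹) := by group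
      rwa [e8] at this
    have h9 := (mem_normalizer_iff.1 (hPT (P.inv_mem hu)) _).1 h8
    have e9 : u⁻¹ * (u * ((k : X) * u * (k : X)⁻¹)) * u⁻¹⁻¹ = (k : X) * u * (k : X)⁻¹ * u := by group
    rwa [e9] at h9
  · intro k hk
    have h5 := hψ3 (e.symm k) hk
    rw [hquad, hes] at h5
    exact h5
  · intro k hk
    exact hT k (hKH hk)

/-- **Quadratic pairs.** -/
theorem pair_centralizes' (hp2 : p ≠ 2) (hst : IsNormalizerPStable p X) {N : Subgroup X} (hNn : N.Normal)
    (hNp : IsPGroup p N) (hN : ∀ x : X, (orderOf x).Coprime p → x ∈ centralizer (N : Set X)) {g h : X} :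
    ∀ (n : ℕ) (P : Subgroup X), Nat.card P = n → IsPGroup p P → g ∈ normalizer (P : Set X) →
      h ∈ normalizer (P : Set X) → (∀ u ∈ P, ⁅g, ⁅g, u⁆⁆ ∈ N) → (∀ u ∈ P, ⁅h, ⁅h, u⁆⁆ ∈ N) →
      ∀ x ∈ closure {g, h}, (orderOf x).Coprime p → x ∈ centralizer (P : Set X) := by
  intro n
  induction n using Nat.strong_induction_on with
  | _ n ih =>
  intro P hPn hPp hgP hhP hg hh x hx hxp
  have hHn : ∀ R : Subgroup X, g ∈ normalizer (R : Set X) → h ∈ normalizer (R : Set X) →
      closure {g, h} ≤ normalizer (R : Set X) := by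
    intro R h1 h2
    rw [closure_le]
    rintro y hy
    simp only [Set.mem_insert_iff, Set.mem_singleton_iff] at hy
    rcases hy with rfl | rfl
    · exact h1
    · exact h2
  by_contra hxP
  have hPbot : P ≠ ⊥ := by
    rintro rfl
    apply hxP
    rw [mem_centralizer_iff]
    rintro y hy
    rw [SetLike.mem_coe, mem_bot] at hy
    rw [hy]; simp
  obtain ⟨T, ⟨hTP, hPT, hgT, hhT⟩, hmax⟩ := Set.Finite.exists_maximal
    (s := {T : Subgroup X | T < P ∧ P ≤ normalizer (T : Set X) ∧ g ∈ normalizer (T : Set X) ∧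
      h ∈ normalizer (T : Set X)}) (Set.toFinite _) ⟨⊥, bot_lt_iff_ne_bot.2 hPbot, by
        rw [normalizer_eq_top]; exact le_top, by rw [normalizer_eq_top]; trivial, by
        rw [normalizer_eq_top]; trivial⟩
  have hTc : ∀ y ∈ closure {g, h}, (orderOf y).Coprime p → y ∈ centralizer (T : Set X) := by
    have hcard : Nat.card T < n := by
      rw [← hPn]
      by_contra hcon
      push Not at hcon
      exact hTP.ne (Subgroup.eq_of_le_of_card_ge hTP.le hcon)
    exact ih _ hcard T rfl (hPp.to_le hTP.le) hgT hhT (fun u hu => hg u (hTP.le hu))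
      (fun u hu => hh u (hTP.le hu))
  -- `N ⊓ P ≤ T`
  have hgN : ∀ y : X, y ∈ normalizer (N : Set X) := by intro y; rw [normalizer_eq_top]; trivial
  have hinf : ∀ y, y ∈ normalizer (P : Set X) → y ∈ normalizer ((N ⊓ P : Subgroup X) : Set X) := by
    intro y hy
    apply mem_normalizer_fintype
    rintro u ⟨hu1, hu2⟩
    exact ⟨hNn.conj_mem u hu1 y, (mem_normalizer_iff.1 hy u).1 hu2⟩
  have hsup : ∀ (A B : Subgroup X) (y : X), y ∈ normalizer (A : Set X) → y ∈ normalizer (B : Set X) →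
      y ∈ normalizer ((A ⊔ B : Subgroup X) : Set X) := by
    intro A B y h1 h2
    exact Cfsg.Agent.H33.norm_sup h1 h2
  have hNT : N ⊓ P ≤ T := by
    by_contra hnot
    have h1 : T ⊔ N ⊓ P = P := by
      by_contra hne
      have h2 : T ⊔ N ⊓ P < P := lt_of_le_of_ne (sup_le hTP.le inf_le_right) hne
      have h3 := hmax (y := T ⊔ N ⊓ P) ⟨h2, fun u hu => hsup _ _ u (hPT hu) (hinf u (le_normalizer hu)),
        hsup _ _ g hgT (hinf g hgP), hsup _ _ h hhT (hinf h hhP)⟩ le_sup_left
      exact hnot (le_sup_right.trans h3)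
    apply hxP
    have h2 : T ⊔ N ⊓ P ≤ centralizer ({x} : Set X) := by
      apply sup_le
      · intro b hb
        rw [mem_centralizer_iff]
        rintro _ rfl
        exact (mem_centralizer_iff.1 (hTc _ hx hxp) b hb).symm
      · intro b hb
        rw [mem_centralizer_iff]
        rintro _ rfl
        exact (mem_centralizer_iff.1 (hN _ hxp) b hb.1).symm
    rw [mem_centralizer_iff]
    intro u hu
    have h3 : u ∈ T ⊔ N ⊓ P := by rw [h1]; exact hu
    exact (mem_centralizer_iff.1 (h2 h3) x rfl).symm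
  have hFT : (frattini P).map P.subtype ≤ T := by
    have h1 := frattini_sup_lt hTP hPT
    have h3 := hmax (y := T ⊔ (frattini P).map P.subtype) ⟨h1,
      fun u hu => hsup _ _ u (hPT hu) (frattini_map_normalizer (le_normalizer hu)),
      hsup _ _ g hgT (frattini_map_normalizer hgP), hsup _ _ h hhT (frattini_map_normalizer hhP)⟩ le_sup_left
    exact le_sup_right.trans h3
  have hcP : ∀ y ∈ normalizer (P : Set X), ∀ u ∈ P, ⁅y, u⁆ ∈ P := by
    intro y hy u hu
    rw [commutatorElement_def]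
    exact P.mul_mem ((mem_normalizer_iff.1 hy u).1 hu) (P.inv_mem hu)
  -- `T` is central in `P`
  have hTcen : ∀ z ∈ T, ∀ u ∈ P, z * u = u * z := by
    obtain ⟨E, hE⟩ : ∃ E : Subgroup X, E = closure {y | y ∈ closure {g, h} ∧ (orderOf y).Coprime p} := ⟨_, rfl⟩
    obtain ⟨H, hH⟩ : ∃ H : Subgroup X, H = closure {g, h} := ⟨_, rfl⟩
    rw [← hH] at hE hTc hx
    have hEgen : ∀ y ∈ H, (orderOf y).Coprime p → y ∈ E := by
      intro y hy hyp
      rw [hE]; exact subset_closure ⟨hy, hyp⟩
    have hEH : E ≤ H := by rw [hE, closure_le]; intro y hy; exact hy.1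
    have hHP : H ≤ normalizer (P : Set X) := by rw [hH]; exact hHn P hgP hhP
    have hHE : H ≤ normalizer (E : Set X) := by
      intro y hy
      apply mem_normalizer_fintype
      intro z hz
      have h3 : E ≤ E.comap (MulAut.conj y).toMonoidHom := by
        conv_lhs => rw [hE]
        rw [closure_le]
        rintro z ⟨hz1, hz2⟩
        refine hEgen _ (H.mul_mem (H.mul_mem hy hz1) (H.inv_mem hy)) ?_
        have : orderOf ((MulAut.conj y) z) = orderOf z := MulEquiv.orderOf_eq (MulAut.conj y) z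
        exact this ▸ hz2
      exact h3 hz
    obtain ⟨B, hB⟩ : ∃ B : Subgroup X, B = ⁅E, P⁆ := ⟨_, rfl⟩
    have hEP : ∀ y ∈ E, ∀ u ∈ P, ⁅y, u⁆ ∈ P := by
      intro y hy u hu
      rw [commutatorElement_def]
      exact P.mul_mem ((mem_normalizer_iff.1 (hHP (hEH hy)) u).1 hu) (P.inv_mem hu)
    have hBP : B ≤ P := by
      rw [hB, commutator_le]; exact hEP
    have hHB : H ≤ normalizer (B : Set X) := by
      intro y hy
      apply mem_normalizer_fintype
      intro z hz
      have h3 : B ≤ B.comap (MulAut.conj y).toMonoidHom := by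
        conv_lhs => rw [hB]
        rw [commutator_le]
        intro e he u hu
        rw [mem_comap]
        show (MulAut.conj y) ⁅e, u⁆ ∈ B
        rw [map_commutatorElement, hB]
        exact commutator_mem_commutator ((mem_normalizer_iff.1 (hHE hy) e).1 he)
          ((mem_normalizer_iff.1 (hHP hy) u).1 hu)
      exact h3 hz
    have hBeq : B = P := by
      by_contra hne
      have hlt : B < P := lt_of_le_of_ne hBP hne
      have hcard : Nat.card B < n := by
        rw [← hPn]
        by_contra hcon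
        push Not at hcon
        exact hlt.ne (Subgroup.eq_of_le_of_card_ge hlt.le hcon)
      have h5 := ih _ hcard B rfl (hPp.to_le hBP) (hHB (by rw [hH]; exact subset_closure (by simp)))
        (hHB (by rw [hH]; exact subset_closure (by simp))) (fun u hu => hg u (hBP hu))
        (fun u hu => hh u (hBP hu)) x (by rw [← hH]; exact hx) hxp
      refine hxP (central_of_chain hPp hBP hxp h5 fun u hu => ?_)
      rw [hB]; exact commutator_mem_commutator (hEgen x hx hxp) hu
    have hET : E ≤ centralizer (T : Set X) := by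
      rw [hE, closure_le]
      rintro y ⟨hy1, hy2⟩
      exact hTc y hy1 hy2
    have hPTT : ⁅P, T⁆ ≤ T := by
      rw [commutator_le]
      intro u hu z hz
      rw [commutatorElement_def]
      exact T.mul_mem ((mem_normalizer_iff.1 (hPT hu) z).1 hz) (T.inv_mem hz)
    have hBT : ⁅B, T⁆ = ⊥ := by
      rw [hB]
      apply commutator_commutator_eq_bot_of_rotate
      · rw [eq_bot_iff]
        calc ⁅⁅P, T⁆, E⁆ ≤ ⁅T, E⁆ := commutator_mono hPTT le_rfl
          _ = ⊥ := by
            rw [commutator_comm]; exact commutator_eq_bot_iff_le_centralizer.2 hET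
          _ ≤ ⊥ := le_rfl
      · rw [show ⁅T, E⁆ = ⊥ by rw [commutator_comm]; exact commutator_eq_bot_iff_le_centralizer.2 hET]
        exact commutator_bot_left P
    rw [hBeq] at hBT
    intro z hz u hu
    exact mem_centralizer_iff.1 ((commutator_eq_bot_iff_le_centralizer.1 hBT) hu) z hz
  refine hxP (pair_centralizes_core' hp2 hst hPp hTP hgP hhP hTcen hPT hgT hhT ?_ ?_ ?_ ?_ ?_ hTc x hx hxp)
  · intro u hu v hv
    apply hFT
    have h1 : ⁅(⟨u, hu⟩ : P), (⟨v, hv⟩ : P)⁆ ∈ frattini P :=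
      Cfsg.Agent.Solv.commutator_le_frattini_of_pGroup hPp
        (commutator_mem_commutator (mem_top _) (mem_top _))
    exact ⟨_, h1, rfl⟩
  · intro u hu
    apply hFT
    have h1 : (⟨u, hu⟩ : P) ^ p ∈ frattini P :=
      Cfsg.Agent.Solv.pow_mem_frattini_of_pGroup hPp ⟨u, hu⟩
    exact ⟨_, h1, rfl⟩
  · intro R hTR hRP h1 h2 h3
    by_cases h4 : R = P
    · exact Or.inr h4
    · left
      exact le_antisymm (hmax (y := R) ⟨lt_of_le_of_ne hRP h4, h3, h1, h2⟩ hTR) hTR
  · intro u hu
    exact hNT ⟨hg u hu, hcP g hgP _ (hcP g hgP u hu)⟩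
  · intro u hu
    exact hNT ⟨hh u hu, hcP h hhP _ (hcP h hhP u hu)⟩

/-- quotients by normal `p`-subgroups centralized by the `p'`-elements -/
theorem isNormalizerPStable_quotient_p' (hp2 : p ≠ 2) (hst : IsNormalizerPStable p X) {N : Subgroup X}
    [hNn : N.Normal] (hNp : IsPGroup p N)
    (hN : ∀ x : X, (orderOf x).Coprime p → x ∈ centralizer (N : Set X)) :
    IsNormalizerPStable p (X ⧸ N) := by
  intro Pb hPb gb hgb hq
  have hsurj := QuotientGroup.mk'_surjective N
  obtain ⟨P, hP⟩ : ∃ P : Subgroup X, P = Pb.comap (QuotientGroup.mk' N) := ⟨_, rfl⟩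
  have hPp : IsPGroup p P := by
    rw [hP]
    apply IsPGroup.comap_of_ker_isPGroup hPb
    rw [QuotientGroup.ker_mk']; exact hNp
  have hPmap : P.map (QuotientGroup.mk' N) = Pb := by
    rw [hP]; exact map_comap_eq_self_of_surjective hsurj Pb
  have hnorm : ∀ g : X, g ∈ normalizer (P : Set X) ↔ QuotientGroup.mk' N g ∈ normalizer (Pb : Set (X ⧸ N)) := by
    intro g
    rw [hP, ← comap_normalizer_eq_of_surjective _ hsurj, mem_comap]
  obtain ⟨g, rfl⟩ := hsurj gb
  have hq' : ∀ u ∈ P, ⁅g, ⁅g, u⁆⁆ ∈ N := by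
    intro u hu
    have h1 : Commute (QuotientGroup.mk' N g) ⁅QuotientGroup.mk' N g, QuotientGroup.mk' N u⁆ :=
      QuadOn.Quad.commute (V := Pb) hq (by rw [← hPmap]; exact ⟨u, hu, rfl⟩)
    rw [← commutatorElement_eq_one_iff_commute] at h1
    rw [← QuotientGroup.eq_one_iff]
    show QuotientGroup.mk' N ⁅g, ⁅g, u⁆⁆ = 1
    rw [map_commutatorElement, map_commutatorElement]; exact h1
  have hgP : g ∈ normalizer (P : Set X) := (hnorm g).2 hgb
  apply mem_pCore_of_pairs hgb
  intro yb hyb xb hxb hxp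
  obtain ⟨y, rfl⟩ := hsurj yb
  have hyP : y ∈ normalizer (P : Set X) := (hnorm y).2 hyb
  have hmap : closure {QuotientGroup.mk' N g, QuotientGroup.mk' N y * QuotientGroup.mk' N g *
      (QuotientGroup.mk' N y)⁻¹} = (closure {g, y * g * y⁻¹}).map (QuotientGroup.mk' N) := by
    rw [MonoidHom.map_closure, Set.image_insert_eq, Set.image_singleton, map_mul, map_mul, map_inv]
  rw [hmap] at hxb
  obtain ⟨x, hx, rfl⟩ := hxb
  obtain ⟨b, hb, k, hk⟩ := exists_split (p := p) x
  have hconjP : ∀ u ∈ P, ∀ n ∈ normalizer (P : Set X), n * u * n⁻¹ ∈ P := fun u hu n hn =>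
    (mem_normalizer_iff.1 hn u).1 hu
  have h1 := pair_centralizes' (p := p) hp2 hst hNn hNp hN (g := g) (h := y * g * y⁻¹) _ P rfl hPp hgP
    (mul_mem (mul_mem hyP hgP) (inv_mem hyP)) hq' (by
      intro u hu
      have e1 : ⁅y * g * y⁻¹, ⁅y * g * y⁻¹, u⁆⁆ = y * ⁅g, ⁅g, y⁻¹ * u * y⁆⁆ * y⁻¹ := by
        simp only [commutatorElement_def]; group
      rw [e1]
      apply hNn.conj_mem
      apply hq'
      have := hconjP u hu y⁻¹ (inv_mem hyP)
      simpa using this) (x ^ b) (pow_mem hx b) hb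
  -- `x̄` is a power of the image of `x ^ b`
  have h2 : (QuotientGroup.mk' N x) ^ p ^ k = (QuotientGroup.mk' N (x ^ b)) ^ p ^ k := by
    rw [← map_pow, hk, map_pow]
  obtain ⟨m, hm⟩ := exists_pow_eq_self_of_coprime (n := p ^ k) (x := QuotientGroup.mk' N x)
    (Nat.Coprime.pow_right k hxp).symm
  rw [← hm, h2]
  apply pow_mem
  apply pow_mem
  rw [mem_centralizer_iff]
  intro v hv
  rw [SetLike.mem_coe, ← hPmap] at hv
  obtain ⟨u, hu, rfl⟩ := hv
  rw [← map_mul, ← map_mul, mem_centralizer_iff.1 h1 u hu]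

end Cfsg.Agent.ZJF.Quot
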